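import Groth.Agent.RelAssClosure.Scheme
import Groth.Agent.H1AssDim.Fibre
import Groth.Agent.ConsPropLib.FibreAss
import Groth.Agent.AssLib.OpenRestrict
import Groth.Agent.AssPtX.Noeth
import Groth.Agent.H1GeomRk.Cons
import Groth.Agent.S1368
import Groth.Agent.S4698
import Mathlib

/-!
# The associated prime cycles of the fibres near the generic point (EGA IV 9.8.3)
-/

universe u

set_option autoImplicit false
set_option linter.style.haveILetI false
set_option backward.isDefEq.respectTransparency false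
set_option backward.isDefEq.respectTransparency.types false
set_option maxHeartbeats 1000000

open CategoryTheory CategoryTheory.Limits AlgebraicGeometry TopologicalSpace Topology

namespace Groth.Agent.AssCycles

section restrict

variable {X S : Scheme.{u}} (f : X ⟶ S) (U : X.Opens)

theorem mem_relAss_restrict_iff (F : X.Modules) (w : U) :
    w ∈ MoreMor.relAss (U.ι ≫ f) ((Scheme.Modules.pullback U.ι).obj F) ↔ U.ι w ∈ MoreMor.relAss f F := by
  let s := (U.ι ≫ f) w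
  let e : (U.ι ≫ f).fiber s ⟶ f.fiber s :=
    pullback.map (U.ι ≫ f) (S.fromSpecResidueField s) f (S.fromSpecResidueField s) U.ι (𝟙 _) (𝟙 _) (by simp) (by simp)
  haveI : IsOpenImmersion e := Scheme.pullback_map_isOpenImmersion _ _ _ _ _ _ _ _ _
  have he : e ≫ f.fiberι s = (U.ι ≫ f).fiberι s ≫ U.ι := pullback.lift_fst _ _ _
  let i : (Scheme.Modules.pullback ((U.ι ≫ f).fiberι s)).obj ((Scheme.Modules.pullback U.ι).obj F) ≅
      (Scheme.Modules.pullback e).obj ((Scheme.Modules.pullback (f.fiberι s)).obj F) :=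
    (Scheme.Modules.pullbackComp _ _).app F ≪≫ (Scheme.Modules.pullbackCongr he.symm).app F ≪≫
      ((Scheme.Modules.pullbackComp _ _).app F).symm
  have hw : f.fiberι s (e ((U.ι ≫ f).asFiber w)) = U.ι w := by
    rw [← Scheme.Hom.comp_apply, he, Scheme.Hom.comp_apply, Scheme.Hom.fiberι_asFiber]
  have h1 := ConsPropLib.mem_relAss_iff_fibre (U.ι ≫ f) ((Scheme.Modules.pullback U.ι).obj F) s ((U.ι ≫ f).asFiber w)
  rw [Scheme.Hom.fiberι_asFiber] at h1
  rw [h1, ConsPropLib.mem_ass_of_iso i, AssLib.mem_ass_pullback_iff e, ← hw]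
  exact (ConsPropLib.mem_relAss_iff_fibre f F s _).symm

theorem isFlatOverAt_restrict (F : X.Modules) (w : U) (h : FlatMod.IsFlatOverAt f F (U.ι w)) :
    FlatMod.IsFlatOverAt (U.ι ≫ f) ((Scheme.Modules.pullback U.ι).obj F) w := by
  obtain ⟨e, he⟩ := AssLib.exists_semilinear_pullback U.ι F w
  letI := FlatMod.moduleStalkOver f F (U.ι w)
  letI : Module (S.presheaf.stalk (f (U.ι w))) (((Scheme.Modules.pullback U.ι).obj F).presheaf.stalk w) :=
    FlatMod.moduleStalkOver (U.ι ≫ f) ((Scheme.Modules.pullback U.ι).obj F) w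
  haveI : Module.Flat (S.presheaf.stalk (f (U.ι w))) (F.presheaf.stalk (U.ι w)) := h
  let L : ((Scheme.Modules.pullback U.ι).obj F).presheaf.stalk w ≃ₗ[S.presheaf.stalk (f (U.ι w))]
      F.presheaf.stalk (U.ι w) :=
    { e with
      map_smul' := fun a m => by
        show e (((U.ι ≫ f).stalkMap w).hom a • m) = (f.stalkMap (U.ι w)).hom a • e m
        rw [← he, Scheme.Hom.stalkMap_comp]
        rfl }
  show Module.Flat (S.presheaf.stalk (f (U.ι w))) (((Scheme.Modules.pullback U.ι).obj F).presheaf.stalk w)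
  exact Module.Flat.of_linearEquiv L

end restrict

/-- A point of a fibre without proper generization in it inside the closure of `ξ`. -/
def IsMaxPt {X S : Scheme.{u}} (f : X ⟶ S) (ξ x : X) : Prop :=
  ξ ⤳ x ∧ ∀ z, ξ ⤳ z → z ⤳ x → f z = f x → z = x

theorem exists_isMaxPt {X S : Scheme.{u}} (f : X ⟶ S) [LocallyOfFiniteType f] {ξ x : X} (h : ξ ⤳ x) :
    ∃ z, IsMaxPt f ξ z ∧ z ⤳ x ∧ f z = f x := by
  obtain ⟨z, hz, hzx, hfz, hmax⟩ := FibDim.exists_max_rd f (Z := {v | ξ ⤳ v}) h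
  refine ⟨z, ⟨hz, fun v hv hvz hfv => ?_⟩, hzx, hfz⟩
  by_contra hne
  have h1 := FibDim.rd_lt f hvz hne hfv
  have h2 := hmax v hv (hvz.trans hzx) (hfv.trans hfz)
  omega

section generic

variable {X S : Scheme.{u}} [IsIntegral S] [IsNoetherian S] (f : X ⟶ S) [LocallyOfFiniteType f] [QuasiCompact f]

theorem exists_nhd_rd_lt (T : Set X) (hT : IsClosed T) (n : ℕ)
    (h : ∀ t ∈ T, f t = genericPoint S → FibDim.rd f t < n) :
    ∃ V : S.Opens, genericPoint S ∈ V ∧ ∀ t ∈ T, f t ∈ V → FibDim.rd f t < n := by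
  haveI : IsLocallyNoetherian X := LocallyOfFiniteType.isLocallyNoetherian f
  haveI : CompactSpace X := QuasiCompact.compactSpace_of_compactSpace f
  haveI : IsNoetherian X := {}
  have hG := H1GeomRk.isClosed_genGE f hT n
  have hGc : IsConstructible (H1GeomRk.GenGE f T n) := by
    rw [← isConstructible_compl]
    exact (show IsRetrocompact (H1GeomRk.GenGE f T n)ᶜ from fun _ _ _ => NoetherianSpace.isCompact _).isConstructible
      hG.isOpen_compl
  have himg : IsConstructible (f '' H1GeomRk.GenGE f T n) := f.isConstructible_image hGc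
  have hη : genericPoint S ∉ closure (f '' H1GeomRk.GenGE f T n) := by
    intro hcl
    haveI : SpectralSpace ↥S := { }
    obtain ⟨z, hz, hzs⟩ := (ProConsLib.consClosed_of_isConstructible himg).exists_specializes_of_mem_closure hcl
    obtain rfl : z = genericPoint S := (hzs.antisymm (genericPoint_specializes z)).eq
    obtain ⟨x, ⟨t, ht, -, hft, hn⟩, hx⟩ := hz
    exact absurd (h t ht (hft.trans hx)) (not_lt.2 hn)
  refine ⟨⟨(closure (f '' H1GeomRk.GenGE f T n))ᶜ, isClosed_closure.isOpen_compl⟩, hη, fun t ht hV => ?_⟩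
  by_contra hn
  exact hV (subset_closure ⟨t, ⟨t, ht, specializes_rfl, rfl, not_lt.1 hn⟩, rfl⟩)

/-- The associated prime cycles near the generic point. -/
theorem exists_nhd_cycles {F : X.Modules} (hF : Coh.IsCoh F) :
    ∃ U : S.Opens, genericPoint S ∈ U ∧ ∀ x, f x ∈ U →
      (x ∈ MoreMor.relAss f F ↔ ∃ ξ ∈ MoreMor.relAss f F, f ξ = genericPoint S ∧ IsMaxPt f ξ x) ∧
      ∀ ξ ∈ MoreMor.relAss f F, f ξ = genericPoint S → IsMaxPt f ξ x →
        (∀ ξ' ∈ MoreMor.relAss f F, f ξ' = genericPoint S → IsMaxPt f ξ' x → ξ' = ξ) ∧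
        ((∀ y ∈ MoreMor.relAss f F, f y = f x → y ⤳ x → y = x) ↔
          ∀ ξ' ∈ MoreMor.relAss f F, f ξ' = genericPoint S → ξ' ⤳ ξ → ξ' = ξ) := by
  classical
  haveI : IsLocallyNoetherian X := LocallyOfFiniteType.isLocallyNoetherian f
  haveI : CompactSpace X := QuasiCompact.compactSpace_of_compactSpace f
  haveI : IsNoetherian X := {}
  -- the generic associated points
  let Ξ : Set X := {ξ | ξ ∈ MoreMor.relAss f F ∧ f ξ = genericPoint S}
  have hΞ : Ξ.Finite := by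
    let s := genericPoint S
    haveI : IsLocallyNoetherian (f.fiber s) := LocallyOfFiniteType.isLocallyNoetherian (f.fiberToSpecResidueField s)
    haveI : CompactSpace (f.fiber s) := QuasiCompact.compactSpace_of_compactSpace (f.fiberToSpecResidueField s)
    refine ((AssPtX.finite_assPoints (ZClosLib.isCoh_pullback (f.fiberι s) hF)
      (U := ⊤) isCompact_univ).image (f.fiberι s)).subset ?_
    rintro ξ ⟨hξ, hfξ⟩
    obtain ⟨w, rfl⟩ : ξ ∈ Set.range (f.fiberι s) := by rw [Scheme.Hom.range_fiberι]; exact hfξ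
    exact ⟨w, ⟨trivial, (ConsPropLib.mem_relAss_iff_fibre f F s w).1 hξ⟩, rfl⟩
  -- generic flatness
  obtain ⟨V, hV, hflat⟩ := Groth.Agent.S4698.result f F hF
  have hηV : genericPoint S ∈ V := ((genericPoint_spec S).mem_open_set_iff V.2).2 (by simpa using hV)
  have hmax : ∀ ξ ∈ Ξ, ∀ x, f x ∈ V → IsMaxPt f ξ x → x ∈ MoreMor.relAss f F ∧ FibDim.rd f x = FibDim.rd f ξ :=
    fun ξ hξ x hx h => RelAssClosure.mem_relAss_and_rd_eq f hF hξ.1 h.1 h.2 (hflat x hx)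
  -- intersections
  have hpair : ∀ ξ ∈ Ξ, ∀ ξ' ∈ Ξ, ¬ ξ' ⤳ ξ → ∃ W : S.Opens, genericPoint S ∈ W ∧
      ∀ x, f x ∈ W → ξ ⤳ x → ξ' ⤳ x → FibDim.rd f x < FibDim.rd f ξ := by
    intro ξ hξ ξ' hξ' hne
    obtain ⟨W, hW, hW'⟩ := exists_nhd_rd_lt f (closure {ξ} ∩ closure {ξ'}) (isClosed_closure.inter isClosed_closure)
      (FibDim.rd f ξ) fun t ht hft => FibDim.rd_lt f (specializes_iff_mem_closure.2 ht.1)
        (fun he => hne (he ▸ specializes_iff_mem_closure.2 ht.2)) (hξ.2.trans hft.symm)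
    exact ⟨W, hW, fun x hx h1 h2 =>
      hW' x ⟨specializes_iff_mem_closure.1 h1, specializes_iff_mem_closure.1 h2⟩ hx⟩
  -- no other associated points
  have hsub : ∀ T : Finset X, ↑T ⊆ Ξ → ∃ W : S.Opens, genericPoint S ∈ W ∧
      ∀ x ∈ MoreMor.relAss f F, f x ∈ W → (∀ ξ ∈ T, ¬ ξ ⤳ x) → ∃ ξ ∈ Ξ, ξ ∉ T ∧ FibDim.rd f ξ = FibDim.rd f x := by
    intro T hT
    have hC : IsClosed (⋃ ξ ∈ T, closure ({ξ} : Set X)) :=
      Set.Finite.isClosed_biUnion T.finite_toSet fun _ _ => isClosed_closure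
    let O : X.Opens := f ⁻¹ᵁ V ⊓ ⟨(⋃ ξ ∈ T, closure ({ξ} : Set X))ᶜ, hC.isOpen_compl⟩
    let g := O.ι ≫ f
    haveI : CompactSpace (O : Scheme.{u}) := isCompact_iff_compactSpace.mp (NoetherianSpace.isCompact _)
    haveI : QuasiCompact g := quasiCompact_of_compactSpace _
    let G := (Scheme.Modules.pullback O.ι).obj F
    have hG : Coh.IsCoh G := ZClosLib.isCoh_pullback _ hF
    haveI : IsLocallyNoetherian (O : Scheme.{u}) := isLocallyNoetherian_of_isOpenImmersion O.ι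
    have hGp : CohB1.IsFP G := ConsPropLib.isFP_of_isCoh' hG
    have hGfl : FlatMod.IsFlatOver g G := fun w => isFlatOverAt_restrict f O F w (hflat _ w.2.1)
    let Φ : Finset ℕ := (hΞ.toFinset \ T).image (FibDim.rd f)
    have hrd : ∀ w : O, FibDim.rd g w = FibDim.rd f (O.ι w) := fun w => FibDim.rd_opens f O w
    have hopen := H1AssDim.isOpen_xassGen g G hGp hGfl (((↑) : ℕ → ℕ∞) '' (Φ : Set ℕ))
    have hxass : ∀ w : O, H1AssDim.XAss g G w ↔ O.ι w ∈ MoreMor.relAss f F := fun w => by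
      rw [← mem_relAss_restrict_iff f O F w]
      have h1 := ConsPropLib.mem_relAss_iff_fibre g G (g w) (g.asFiber w)
      have h2 := H1AssDim.mem_ass_iff g G hGp (g w) (g.asFiber w)
      rw [Scheme.Hom.fiberι_asFiber] at h1 h2
      exact (h1.trans h2).symm
    obtain ⟨W, hW, hW'⟩ := Groth.Agent.S1368.result g G hG ⟨_, hopen⟩ fun w hw hgw => by
      intro t ht hft hta
      have h1 : O.ι t ∈ Ξ := ⟨(hxass t).1 hta, (Scheme.Hom.comp_apply O.ι f t).symm.trans (hft.trans hgw)⟩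
      have h2 : O.ι t ∉ T := fun h =>
        t.2.2 (Set.mem_biUnion h (subset_closure rfl))
      exact ⟨FibDim.rd f (O.ι t), Finset.mem_image_of_mem _ (Finset.mem_sdiff.2 ⟨hΞ.mem_toFinset.2 h1, h2⟩),
        congrArg _ (hrd t).symm⟩
    refine ⟨W ⊓ V, ⟨((genericPoint_spec S).mem_open_set_iff W.2).2 (by simpa using hW), hηV⟩, fun x hx hxW hxT => ?_⟩
    have hxO : x ∈ O := ⟨hxW.2, fun hm => by
      obtain ⟨ξ, hξ, hξx⟩ := Set.mem_iUnion₂.1 hm
      exact hxT ξ hξ (specializes_iff_mem_closure.2 hξx)⟩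
    have h1 : (⟨x, hxO⟩ : O) ∈ MoreMor.relAss g G := (mem_relAss_restrict_iff f O F _).2 hx
    obtain ⟨n, hn, he⟩ := hW' _ h1 hxW.1 _ specializes_rfl rfl ((hxass _).2 hx)
    obtain ⟨ξ, hξ, rfl⟩ := Finset.mem_image.1 hn
    rw [Finset.mem_sdiff, hΞ.mem_toFinset] at hξ
    refine ⟨ξ, hξ.1, hξ.2, ?_⟩
    rw [hrd] at he
    exact_mod_cast he
  choose! Wp hWp hWp' using hpair
  choose! Ws hWs hWs' using hsub
  have h2 : Set.Finite {p : X × X | p.1 ∈ Ξ ∧ p.2 ∈ Ξ ∧ ¬ p.2 ⤳ p.1} :=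
    (hΞ.prod hΞ).subset fun p hp => ⟨hp.1, hp.2.1⟩
  let U : Set S := (V : Set S) ∩ (⋂ T ∈ hΞ.toFinset.powerset, (Ws T : Set S)) ∩
    ⋂ p ∈ h2.toFinset, (Wp p.1 p.2 : Set S)
  have hUo : IsOpen U := (V.2.inter (isOpen_biInter_finset fun T _ => (Ws T).2)).inter
    (isOpen_biInter_finset fun p _ => (Wp p.1 p.2).2)
  refine ⟨⟨U, hUo⟩, ⟨⟨hηV, Set.mem_iInter₂.2 fun T hT => hWs T (fun t ht => hΞ.mem_toFinset.1 (Finset.mem_powerset.1 hT ht))⟩,
    Set.mem_iInter₂.2 fun p hp => by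
      obtain ⟨h1, h1', h1''⟩ := h2.mem_toFinset.1 hp
      exact hWp p.1 h1 p.2 h1' h1''⟩, fun x hx => ?_⟩
  obtain ⟨⟨hxV, hxT⟩, hxP⟩ := hx
  have hP : ∀ ξ ∈ Ξ, ∀ ξ' ∈ Ξ, ¬ ξ' ⤳ ξ → ξ ⤳ x → ξ' ⤳ x → FibDim.rd f x < FibDim.rd f ξ :=
    fun ξ hξ ξ' hξ' hne => hWp' ξ hξ ξ' hξ' hne x (Set.mem_iInter₂.1 hxP (ξ, ξ') (h2.mem_toFinset.2 ⟨hξ, hξ', hne⟩))
  have huniq : ∀ ξ ∈ Ξ, ∀ ξ' ∈ Ξ, IsMaxPt f ξ x → IsMaxPt f ξ' x → ξ' = ξ := by
    intro ξ hξ ξ' hξ' h h'
    have e := ((hmax ξ hξ x hxV h).2.symm.trans (hmax ξ' hξ' x hxV h').2)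
    by_cases h1 : ξ' ⤳ ξ
    · by_contra hne
      have := FibDim.rd_lt f h1 hne (hξ'.2.trans hξ.2.symm)
      omega
    · have := hP ξ hξ ξ' hξ' h1 h.1 h'.1
      rw [(hmax ξ hξ x hxV h).2] at this
      omega
  constructor
  · refine ⟨fun hxA => ?_, fun ⟨ξ, h1, h2, h3⟩ => (hmax ξ ⟨h1, h2⟩ x hxV h3).1⟩
    let T := hΞ.toFinset.filter fun ξ => FibDim.rd f ξ ≤ FibDim.rd f x
    have hTsub : ↑T ⊆ Ξ := fun t ht => hΞ.mem_toFinset.1 (Finset.mem_filter.1 ht).1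
    obtain ⟨ξ, hξT, hξx⟩ : ∃ ξ ∈ T, ξ ⤳ x := by
      by_contra hno
      push Not at hno
      obtain ⟨ξ, hξ, hξT, he⟩ := hWs' T hTsub x hxA
        (Set.mem_iInter₂.1 hxT T (Finset.mem_powerset.2 (Finset.filter_subset _ _))) hno
      exact hξT (Finset.mem_filter.2 ⟨hΞ.mem_toFinset.2 hξ, he.le⟩)
    refine ⟨ξ, (hTsub hξT).1, (hTsub hξT).2, hξx, fun z hξz hzx hfz => ?_⟩
    by_contra hne
    have h1 := FibDim.rd_lt f hzx hne hfz
    obtain ⟨z', hz', hz'z, hfz'⟩ := exists_isMaxPt f hξz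
    have h2' := (hmax ξ (hTsub hξT) z' (show f z' ∈ V by rw [hfz', hfz]; exact hxV) hz').2
    have h3 := FibDim.rd_le_of_specializes f hz'z hfz'
    have h4 := (Finset.mem_filter.1 hξT).2
    omega
  · intro ξ hξA hfξ hξ
    refine ⟨fun ξ' h1 h2 h3 => huniq ξ ⟨hξA, hfξ⟩ ξ' ⟨h1, h2⟩ hξ h3, ⟨fun hx' ξ' h1 h2 hsp => ?_, fun hξ' y hy hfy hyx => ?_⟩⟩
    · obtain ⟨z, hz, hzx, hfz⟩ := exists_isMaxPt f (hsp.trans hξ.1)
      have hzA := (hmax ξ' ⟨h1, h2⟩ z (show f z ∈ V by rw [hfz]; exact hxV) hz).1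
      obtain rfl := hx' z hzA hfz hzx
      exact huniq ξ ⟨hξA, hfξ⟩ ξ' ⟨h1, h2⟩ hξ hz
    · by_contra hne
      obtain ⟨⟨hyV, hyT⟩, hyP⟩ := (show f y ∈ U from hfy ▸ (⟨⟨hxV, hxT⟩, hxP⟩ : f x ∈ U))
      let T := hΞ.toFinset.filter fun ξ => FibDim.rd f ξ ≤ FibDim.rd f y
      have hTsub : ↑T ⊆ Ξ := fun t ht => hΞ.mem_toFinset.1 (Finset.mem_filter.1 ht).1
      obtain ⟨ξ', hξ'T, hξ'y⟩ : ∃ ξ' ∈ T, ξ' ⤳ y := by
        by_contra hno
        push Not at hno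
        obtain ⟨ξ', hξ'', hξ'T, he⟩ := hWs' T hTsub y hy
          (Set.mem_iInter₂.1 hyT T (Finset.mem_powerset.2 (Finset.filter_subset _ _))) hno
        exact hξ'T (Finset.mem_filter.2 ⟨hΞ.mem_toFinset.2 hξ'', he.le⟩)
      have hle := (Finset.mem_filter.1 hξ'T).2
      have hlt := FibDim.rd_lt f hyx hne hfy
      have hrdx := (hmax ξ ⟨hξA, hfξ⟩ x hxV hξ).2
      by_cases h1 : ξ' ⤳ ξ
      · have := hξ' ξ' (hTsub hξ'T).1 (hTsub hξ'T).2 h1
        subst this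
        exact hne (hξ.2 y hξ'y hyx hfy)
      · have := hP ξ ⟨hξA, hfξ⟩ ξ' (hTsub hξ'T) h1 hξ.1 (hξ'y.trans hyx)
        omega

end generic

end Groth.Agent.AssCycles
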